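import Cfsg.Agent.Derange.Basic

/-! A primitive group with at most two classes of derangements is almost simple or affine. -/

namespace CfsgLib.TwoClasses

open MulAction

theorem exists_derangement {X Ω : Type*} [Group X] [Finite X] [MulAction X Ω] [Finite Ω]
    [IsPretransitive X Ω] [Nontrivial Ω] : ∃ g : X, ∀ ω : Ω, g • ω ≠ ω := by
  by_contra h
  push_neg at h
  obtain ⟨ht, -⟩ := CfsgLib.Derange.main (Ω := Ω) (⊥ : Subgroup X)
    (fun g hg => by obtain ⟨ω, hω⟩ := h g; exact absurd hω (hg ω))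
  obtain ⟨a, b, hab⟩ := exists_pair_ne Ω
  obtain ⟨e, he⟩ := ht.exists_smul_eq a b
  refine hab ?_
  have h1 : (e : X) = 1 := Subgroup.mem_bot.1 e.2
  rw [← he]
  show a = (e : X) • a
  rw [h1, one_smul]

theorem eq_top_of_conj_cover {T : Type*} [Group T] [Finite T] (B : Subgroup T)
    (h : ∀ a : T, ∃ t : T, t⁻¹ * a * t ∈ B) : B = ⊤ := by
  by_contra hB
  haveI : Nontrivial (T ⧸ B) := by
    rw [← Finite.one_lt_card_iff_nontrivial]
    have h0 : B.index ≠ 0 := B.index_ne_zero_of_finite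
    have h1 : B.index ≠ 1 := fun e => hB (Subgroup.index_eq_one.1 e)
    have : Nat.card (T ⧸ B) = B.index := rfl
    omega
  obtain ⟨a, ha⟩ := exists_derangement (X := T) (Ω := T ⧸ B)
  obtain ⟨t, ht⟩ := h a
  refine ha (t : T ⧸ B) ?_
  rw [Quotient.smul_coe, smul_eq_mul, QuotientGroup.eq]
  simpa [mul_assoc] using B.inv_mem ht

theorem exists_orders_ne {T : Type*} [Group T] [Finite T] [Nontrivial T]
    (hc : Subgroup.center T = ⊥) : ∃ a b : T, a ≠ 1 ∧ b ≠ 1 ∧ orderOf a ≠ orderOf b := by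
  by_contra h
  push_neg at h
  obtain ⟨x, hx⟩ := exists_ne (1 : T)
  have hx1 : orderOf x ≠ 1 := mt orderOf_eq_one_iff.1 hx
  set p := (orderOf x).minFac with hpdef
  haveI : Fact p.Prime := ⟨Nat.minFac_prime hx1⟩
  obtain ⟨k, hk⟩ := Nat.minFac_dvd (orderOf x)
  have hy : orderOf (x ^ k) = p := by
    have hk0 : k ≠ 0 := fun e => by rw [e, mul_zero] at hk; exact (orderOf_pos x).ne' hk
    rw [orderOf_pow' x hk0, hk, Nat.gcd_mul_left_left, Nat.mul_div_cancel _ (Nat.pos_of_ne_zero hk0)]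
  have hall : ∀ y : T, y ^ p = 1 := fun y => by
    rcases eq_or_ne y 1 with rfl | hy1
    · exact one_pow _
    · have hne : x ^ k ≠ 1 := fun e => by
        rw [e, orderOf_one] at hy; exact (Fact.out : p.Prime).ne_one hy.symm
      rw [← orderOf_dvd_iff_pow_eq_one, h y (x ^ k) hy1 hne, hy]
  have hP : IsPGroup p T := fun y => ⟨1, by rw [pow_one]; exact hall y⟩
  haveI := hP.center_nontrivial
  exact (Subgroup.nontrivial_iff_ne_bot _).1 inferInstance hc

variable {G Ω : Type*} [Group G] [Finite G] [MulAction G Ω] [Finite Ω]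

theorem two_classes {a b c : G} (hκ : Nat.card {C : ConjClasses G //
      ∃ g : G, ConjClasses.mk g = C ∧ ∀ ω : Ω, g • ω ≠ ω} ≤ 2)
    (ha : ∀ ω : Ω, a • ω ≠ ω) (hb : ∀ ω : Ω, b • ω ≠ ω) (hc : ∀ ω : Ω, c • ω ≠ ω)
    (hab : ¬ IsConj a b) (hac : ¬ IsConj a c) (hbc : ¬ IsConj b c) : False := by
  let f : Fin 3 → {C : ConjClasses G // ∃ g : G, ConjClasses.mk g = C ∧ ∀ ω : Ω, g • ω ≠ ω} :=
    ![⟨_, a, rfl, ha⟩, ⟨_, b, rfl, hb⟩, ⟨_, c, rfl, hc⟩]
  have hf : Function.Injective f := by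
    intro i j hij
    have h := congrArg Subtype.val hij
    have hba : ¬ IsConj b a := fun e => hab e.symm
    have hca : ¬ IsConj c a := fun e => hac e.symm
    have hcb : ¬ IsConj c b := fun e => hbc e.symm
    fin_cases i <;> fin_cases j <;> first
      | rfl
      | exact (hab (ConjClasses.mk_eq_mk_iff_isConj.1 h)).elim
      | exact (hba (ConjClasses.mk_eq_mk_iff_isConj.1 h)).elim
      | exact (hac (ConjClasses.mk_eq_mk_iff_isConj.1 h)).elim
      | exact (hca (ConjClasses.mk_eq_mk_iff_isConj.1 h)).elim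
      | exact (hbc (ConjClasses.mk_eq_mk_iff_isConj.1 h)).elim
      | exact (hcb (ConjClasses.mk_eq_mk_iff_isConj.1 h)).elim
  have := Nat.card_le_card_of_injective f hf
  rw [Nat.card_fin] at this
  omega

/-- The supports of the elements with respect to a family of subgroups. -/
def supp (𝒯 : Set (Subgroup G)) (x : G) : Set (Subgroup G) :=
  {S ∈ 𝒯 | x ∉ Subgroup.centralizer (S : Set G)}

theorem supp_conj (T : Subgroup G) (g x : G) :
    supp (Set.range fun y => T.map (MulAut.conj y).toMonoidHom) (g * x * g⁻¹) =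
      (fun S : Subgroup G => S.map (MulAut.conj g).toMonoidHom) ''
        supp (Set.range fun y => T.map (MulAut.conj y).toMonoidHom) x := by
  have key : ∀ (g x : G) (S : Subgroup G),
      g * x * g⁻¹ ∈ Subgroup.centralizer (S.map (MulAut.conj g).toMonoidHom : Set G) ↔
        x ∈ Subgroup.centralizer (S : Set G) := by
    intro g x S
    simp only [Subgroup.mem_centralizer_iff, SetLike.mem_coe, Subgroup.mem_map]
    constructor
    · intro h s hs
      have := h _ ⟨s, hs, rfl⟩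
      simp [mul_assoc] at this
      rwa [← mul_assoc, ← mul_assoc, mul_left_inj] at this
    · rintro h _ ⟨s, hs, rfl⟩
      have := h s hs
      simp [mul_assoc]
      rw [← mul_assoc s x, this, mul_assoc]
  have hmap : ∀ (g y : G), (T.map (MulAut.conj y).toMonoidHom).map (MulAut.conj g).toMonoidHom =
      T.map (MulAut.conj (g * y)).toMonoidHom := by
    intro g y
    rw [Subgroup.map_map, map_mul]
    rfl
  ext S
  constructor
  · rintro ⟨⟨y, rfl⟩, hS⟩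
    refine ⟨T.map (MulAut.conj (g⁻¹ * y)).toMonoidHom, ⟨⟨_, rfl⟩, fun h => hS ?_⟩, ?_⟩
    · rw [← key g, hmap, mul_inv_cancel_left] at h
      exact h
    · show (T.map _).map _ = _
      rw [hmap, mul_inv_cancel_left]
  · rintro ⟨S', ⟨⟨y, rfl⟩, hS'⟩, rfl⟩
    exact ⟨⟨g * y, (hmap g y).symm⟩, fun h => hS' ((key g x _).1 h)⟩

variable [FaithfulSMul G Ω]

/-- A normal subgroup normalised by a transitive group which fixes a point is trivial. -/
theorem eq_bot_of_fixed {S : Subgroup G} {α : Ω} (N : Subgroup G) [IsPretransitive N Ω]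
    (hS : ∀ n ∈ N, ∀ s ∈ S, n * s * n⁻¹ ∈ S) (hfix : ∀ s ∈ S, s • α = α) : S = ⊥ := by
  rw [Subgroup.eq_bot_iff_forall]
  intro s hs
  refine FaithfulSMul.eq_of_smul_eq_smul (α := Ω) fun ω => ?_
  obtain ⟨n, rfl⟩ := exists_smul_eq N α ω
  have h := hfix _ (hS (n : G)⁻¹ (N.inv_mem n.2) s hs)
  rw [inv_inv, mul_smul, mul_smul, inv_smul_eq_iff] at h
  rw [one_smul]
  exact h

/-- At most two classes of derangements: almost simple, or an abelian regular normal subgroup. -/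
theorem affine [Nontrivial Ω] (hnorm : ∀ N : Subgroup G, N.Normal → N ≠ ⊥ → IsPretransitive N Ω)
    (hnas : ¬ ∃ T : Subgroup G, T.Normal ∧ IsSimpleGroup T ∧ ¬ IsMulCommutative T ∧
      Subgroup.centralizer (T : Set G) = ⊥)
    [IsPretransitive G Ω] (hκ : Nat.card {C : ConjClasses G //
      ∃ g : G, ConjClasses.mk g = C ∧ ∀ ω : Ω, g • ω ≠ ω} ≤ 2) :
    ∃ N : Subgroup G, N.Normal ∧ N ≠ ⊥ ∧ IsMulCommutative N ∧ IsPretransitive N Ω ∧
      ∀ ω : Ω, stabilizer N ω = ⊥ := by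
  classical
  obtain ⟨g₀, hg₀⟩ := exists_derangement (X := G) (Ω := Ω)
  have hGne : (⊤ : Subgroup G) ≠ ⊥ := fun h => by
    obtain ⟨α, -, -⟩ := exists_pair_ne Ω
    have h1 := Subgroup.mem_top g₀
    rw [h, Subgroup.mem_bot] at h1
    exact hg₀ α (by rw [h1, one_smul])
  obtain ⟨N, ⟨hNn, hNne⟩, hNmin⟩ :=
    (Set.toFinite {N : Subgroup G | N.Normal ∧ N ≠ ⊥}).exists_minimal
      ⟨⊤, inferInstance, hGne⟩
  haveI := hNn
  haveI hNt := hnorm N hNn hNne
  have hmin : ∀ K : Subgroup G, K.Normal → K ≤ N → K ≠ ⊥ → K = N := fun K h1 h2 h3 =>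
    le_antisymm h2 (hNmin ⟨h1, h3⟩ h2)
  by_cases hab : IsMulCommutative N
  · refine ⟨N, hNn, hNne, hab, hNt, fun ω => ?_⟩
    rw [Subgroup.eq_bot_iff_forall]
    intro n hn
    refine Subtype.ext (FaithfulSMul.eq_of_smul_eq_smul (α := Ω) fun x => ?_)
    obtain ⟨m, rfl⟩ := exists_smul_eq N ω x
    rw [Subgroup.coe_one, one_smul]
    show n • m • ω = m • ω
    rw [← mul_smul, hab.is_comm.comm n m, mul_smul, mem_stabilizer_iff.1 hn]
  exfalso
  set C := Subgroup.centralizer (N : Set G) with hC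
  have hCN : N ⊓ C = ⊥ := by
    by_contra h
    refine hab ⟨⟨fun a b => Subtype.ext ?_⟩⟩
    have := hmin _ inferInstance inf_le_left h
    have hb : (b : G) ∈ C := (inf_eq_left.1 this) b.2
    exact Subgroup.mem_centralizer_iff.1 hb a a.2
  have hZN : Subgroup.center N = ⊥ := by
    rw [Subgroup.eq_bot_iff_forall]
    intro z hz
    have : (z : G) ∈ N ⊓ C := ⟨z.2, Subgroup.mem_centralizer_iff.2 fun n hn =>
      congrArg Subtype.val (Subgroup.mem_center_iff.1 hz ⟨n, hn⟩)⟩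
    rw [hCN, Subgroup.mem_bot] at this
    exact Subtype.ext this
  haveI : Nontrivial N := (Subgroup.nontrivial_iff_ne_bot _).2 hNne
  by_cases hCne : C ≠ ⊥
  · haveI := hnorm C inferInstance hCne
    have hder : ∀ n ∈ N, n ≠ 1 → ∀ ω : Ω, n • ω ≠ ω := by
      intro n hn hn1 ω hω
      refine hn1 (FaithfulSMul.eq_of_smul_eq_smul (α := Ω) fun x => ?_)
      obtain ⟨c, rfl⟩ := exists_smul_eq C ω x
      rw [one_smul]
      show n • (c : G) • ω = (c : G) • ω
      rw [← mul_smul, Subgroup.mem_centralizer_iff.1 c.2 n hn, mul_smul, hω]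
    have hderC : ∀ c ∈ C, c ≠ 1 → ∀ ω : Ω, c • ω ≠ ω := by
      intro c hc hc1 ω hω
      refine hc1 (FaithfulSMul.eq_of_smul_eq_smul (α := Ω) fun x => ?_)
      obtain ⟨n, rfl⟩ := exists_smul_eq N ω x
      rw [one_smul]
      show c • (n : G) • ω = (n : G) • ω
      rw [← mul_smul, ← Subgroup.mem_centralizer_iff.1 hc n n.2, mul_smul, hω]
    obtain ⟨a, b, ha, hb, hne⟩ := exists_orders_ne hZN
    obtain ⟨c, hc, hc1⟩ := C.bot_or_exists_ne_one.resolve_left hCne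
    have hcn : ∀ n ∈ N, n ≠ 1 → ¬ IsConj n c := by
      intro n hn hn1 h
      obtain ⟨g, hg⟩ := isConj_iff.1 h
      have : c ∈ N ⊓ C := ⟨hg ▸ hNn.conj_mem n hn g, hc⟩
      rw [hCN, Subgroup.mem_bot] at this
      exact hc1 this
    refine two_classes hκ (hder a a.2 (by simpa using ha)) (hder b b.2 (by simpa using hb))
      (hderC c hc hc1) (fun h => ?_) (hcn a a.2 (by simpa using ha)) (hcn b b.2 (by simpa using hb))
    obtain ⟨g, hg⟩ := isConj_iff.1 h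
    apply hne
    rw [← Subgroup.orderOf_coe, ← Subgroup.orderOf_coe b, ← hg, ← MulAut.conj_apply, MulEquiv.orderOf_eq]
  rw [not_not] at hCne
  -- `N` is not simple: a minimal normal subgroup of `N`
  obtain ⟨T, ⟨hTne, hTN, hTn⟩, hTmin⟩ :=
    (Set.toFinite {T : Subgroup G | T ≠ ⊥ ∧ T ≤ N ∧ ∀ n ∈ N, ∀ t ∈ T, n * t * n⁻¹ ∈ T}).exists_minimal
      ⟨N, hNne, le_rfl, fun n hn t ht => N.mul_mem (N.mul_mem hn ht) (N.inv_mem hn)⟩
  set 𝒯 := Set.range fun y : G => T.map (MulAut.conj y).toMonoidHom with h𝒯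
  have hTmem : T ∈ 𝒯 := ⟨1, by ext; simp⟩
  have hall : ∀ S ∈ 𝒯, S ≤ N ∧ ∀ n ∈ N, ∀ s ∈ S, n * s * n⁻¹ ∈ S := by
    rintro _ ⟨y, rfl⟩
    refine ⟨?_, ?_⟩
    · rintro _ ⟨t, ht, rfl⟩
      exact hNn.conj_mem t (hTN ht) y
    · rintro n hn _ ⟨t, ht, rfl⟩
      refine ⟨_, hTn (y⁻¹ * n * y) (by simpa [mul_assoc] using hNn.conj_mem n hn y⁻¹) t ht, ?_⟩
      simp [mul_assoc]
  have hdisj : ∀ S ∈ 𝒯, S ≠ T → ∀ t ∈ T, ∀ s ∈ S, t * s = s * t := by
    intro S hS hST t ht s hs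
    have hinf : T ⊓ S = ⊥ := by
      by_contra h
      have : T ≤ T ⊓ S := hTmin ⟨h, inf_le_left.trans hTN, fun n hn x hx =>
        ⟨hTn n hn x hx.1, (hall S hS).2 n hn x hx.2⟩⟩ inf_le_left
      obtain ⟨y, rfl⟩ := hS
      exact hST (Subgroup.eq_of_le_of_card_ge (le_trans this inf_le_right)
        (le_of_eq (Subgroup.card_map_of_injective (MulEquiv.injective (MulAut.conj y))))).symm
    have hmem : t * s * t⁻¹ * s⁻¹ ∈ T ⊓ S := by
      refine ⟨?_, S.mul_mem ((hall S hS).2 t (hTN ht) s hs) (S.inv_mem hs)⟩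
      have h1 := hTn s ((hall S hS).1 hs) t⁻¹ (T.inv_mem ht)
      simpa [mul_assoc] using T.mul_mem ht h1
    rw [hinf, Subgroup.mem_bot, mul_inv_eq_one, mul_inv_eq_iff_eq_mul] at hmem
    exact hmem
  set R := sSup {S | S ∈ 𝒯 ∧ S ≠ T} with hR
  have hRle : ∀ S ∈ 𝒯, S ≠ T → S ≤ R := fun S h1 h2 => le_sSup ⟨h1, h2⟩
  have hRC : R ≤ Subgroup.centralizer (T : Set G) := sSup_le fun S ⟨hS, hne⟩ s hs =>
    Subgroup.mem_centralizer_iff.2 fun t ht => hdisj S hS hne t ht s hs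
  have hTR : T ⊔ R = N := by
    have hle : ∀ S ∈ 𝒯, S ≤ T ⊔ R := fun S hS => by
      by_cases h : S = T
      · exact h ▸ le_sup_left
      · exact le_sup_of_le_right (hRle S hS h)
    refine le_antisymm (sup_le hTN (sSup_le fun S hS => (hall S hS.1).1)) ?_
    have hn : (sSup 𝒯).Normal := by
      rw [← Subgroup.normalizer_eq_top_iff, eq_top_iff]
      intro g _
      rw [Subgroup.mem_normalizer_iff]
      have key : ∀ g : G, (sSup 𝒯).map (MulAut.conj g).toMonoidHom ≤ sSup 𝒯 := by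
        intro g
        rw [(Subgroup.gc_map_comap _).l_sSup]
        refine iSup₂_le fun S hS => ?_
        obtain ⟨y, rfl⟩ := hS
        exact le_sSup ⟨g * y, by dsimp only; rw [Subgroup.map_map, map_mul]; rfl⟩
      intro x
      exact ⟨fun hx => key g ⟨x, hx, rfl⟩, fun hx => by
        simpa [mul_assoc] using key g⁻¹ ⟨_, hx, rfl⟩⟩
    rw [← hmin _ hn (sSup_le fun S hS => (hall S hS).1)
      (fun h => hTne (le_bot_iff.1 (h ▸ le_sSup hTmem)))]
    exact sSup_le hle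
  have hZT : T ⊓ Subgroup.centralizer (T : Set G) = ⊥ := by
    rw [Subgroup.eq_bot_iff_forall]
    rintro z ⟨hz, hz'⟩
    have : N ≤ Subgroup.centralizer ({z} : Set G) := by
      rw [← hTR]
      refine sup_le (fun t ht => ?_) (fun r hr => ?_)
      · rw [Subgroup.mem_centralizer_singleton_iff]; exact (Subgroup.mem_centralizer_iff.1 hz' t ht)
      · rw [Subgroup.mem_centralizer_singleton_iff]
        exact (Subgroup.mem_centralizer_iff.1 (hRC hr) z hz).symm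
    have : z ∈ N ⊓ C := ⟨hTN hz, Subgroup.mem_centralizer_iff.2 fun n hn =>
      Subgroup.mem_centralizer_singleton_iff.1 (this hn)⟩
    rwa [hCN, Subgroup.mem_bot] at this
  have hTR' : ∀ z ∈ T, z ∈ R → z = 1 := fun z h1 h2 =>
    Subgroup.mem_bot.1 (hZT ▸ (⟨h1, hRC h2⟩ : z ∈ T ⊓ Subgroup.centralizer (T : Set G)))
  have hdec : ∀ n ∈ N, ∃ t ∈ T, ∃ r ∈ R, n = t * r := by
    intro n hn
    rw [← hTR, ← SetLike.mem_coe, Subgroup.coe_mul_of_left_le_normalizer_right T R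
      (fun t ht => Subgroup.mem_normalizer_iff.2 fun r => by
        constructor
        · intro hr
          rwa [Subgroup.mem_centralizer_iff.1 (hRC hr) t ht, mul_inv_cancel_right]
        · intro hr
          have := Subgroup.mem_centralizer_iff.1 (hRC hr) t ht
          rw [inv_mul_cancel_right, mul_right_inj] at this
          rwa [this] at hr)] at hn
    obtain ⟨t, ht, r, hr, h⟩ := hn
    exact ⟨t, ht, r, hr, h.symm⟩
  have hcomm : ∀ t ∈ T, ∀ r ∈ R, t * r = r * t := fun t ht r hr =>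
    Subgroup.mem_centralizer_iff.1 (hRC hr) t ht
  -- a subgroup of `N` other than `T`
  obtain ⟨T', hT'mem, hT'ne⟩ : ∃ S ∈ 𝒯, S ≠ T := by
    by_contra h
    push_neg at h
    have hTnormal : T.Normal := ⟨fun t ht g => by
      have := h _ ⟨g, rfl⟩
      exact this ▸ ⟨t, ht, rfl⟩⟩
    have hTN' : T = N := hmin T hTnormal hTN hTne
    refine hnas ⟨N, hNn, ?_, hab, hCne⟩
    refine ⟨fun K hK => ?_⟩
    by_cases hKbot : K = ⊥
    · exact Or.inl hKbot
    right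
    have hle : T ≤ K.map N.subtype := hTmin ⟨fun e => hKbot ((Subgroup.map_eq_bot_iff_of_injective K N.subtype_injective).1 e),
      fun x hx => by obtain ⟨k, -, rfl⟩ := hx; exact k.2,
      fun n hn x hx => by
        obtain ⟨k, hk, rfl⟩ := hx
        exact ⟨⟨n, hn⟩ * k * ⟨n, hn⟩⁻¹, hK.conj_mem k hk ⟨n, hn⟩, rfl⟩⟩
      (fun x hx => by rw [hTN']; obtain ⟨k, -, rfl⟩ := hx; exact k.2)
    rw [eq_top_iff]
    intro k _
    obtain ⟨k', hk', e⟩ := hle (show (k : G) ∈ T by rw [hTN']; exact k.2)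
    rwa [Subtype.ext e] at hk'
  have hT'R : T' ≤ R := hRle T' hT'mem hT'ne
  -- fixed points
  obtain ⟨α, -, -⟩ := exists_pair_ne Ω
  have hfixT : ∀ a ∈ T, ∀ r ∈ R, ∀ ω : Ω, (a * r) • ω = ω →
      ∃ t ∈ T, ∃ s ∈ R, (t⁻¹ * a * t * (s⁻¹ * r * s)) • α = α := by
    intro a ha r hr ω hω
    obtain ⟨n, rfl⟩ := exists_smul_eq N α ω
    obtain ⟨t, ht, s, hs, hn⟩ := hdec n n.2
    refine ⟨t, ht, s, hs, ?_⟩
    have e : t⁻¹ * a * t * (s⁻¹ * r * s) = (t * s)⁻¹ * (a * r) * (t * s) := by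
      have e1 : s⁻¹ * (t⁻¹ * a * t) = t⁻¹ * a * t * s⁻¹ :=
        (hcomm _ (T.mul_mem (T.mul_mem (T.inv_mem ht) ha) ht) _ (R.inv_mem hs)).symm
      have e2 : r * t = t * r := (hcomm t ht r hr).symm
      calc t⁻¹ * a * t * (s⁻¹ * r * s) = (t⁻¹ * a * t * s⁻¹) * r * s := by group
        _ = s⁻¹ * t⁻¹ * a * (t * r) * s := by rw [← e1]; group
        _ = (t * s)⁻¹ * (a * r) * (t * s) := by rw [← e2]; group
    have hω' : (a * r) • (t * s) • α = (t * s) • α := by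
      rw [← hn]; exact hω
    rw [e, mul_smul, mul_smul, hω', inv_smul_smul]
  -- a derangement in `T`
  have hsupp : ∀ g x : G, (supp 𝒯 (g * x * g⁻¹)).ncard = (supp 𝒯 x).ncard := fun g x => by
    rw [supp_conj, Set.ncard_image_of_injective _
      (Subgroup.map_injective (MulEquiv.injective (MulAut.conj g)))]
  have hsuppT : ∀ a ∈ T, a ≠ 1 → supp 𝒯 a = {T} := by
    intro a ha ha1
    ext S
    constructor
    · rintro ⟨hS, h⟩
      by_contra hne
      exact h (Subgroup.mem_centralizer_iff.2 fun s hs => (hdisj S hS hne a ha s hs).symm)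
    · rintro rfl
      exact ⟨hTmem, fun h => ha1 (Subgroup.mem_bot.1 (hZT ▸
        (⟨ha, h⟩ : a ∈ S ⊓ Subgroup.centralizer (S : Set G))))⟩
  obtain ⟨d, hdN, hd⟩ : ∃ d ∈ N, ∀ ω : Ω, d • ω ≠ ω := by
    obtain ⟨d, hd⟩ := exists_derangement (X := N) (Ω := Ω)
    exact ⟨d, d.2, hd⟩
  obtain ⟨x, hxT, hx⟩ : ∃ x ∈ T, ∀ ω : Ω, x • ω ≠ ω := by
    obtain ⟨d₁, ⟨hd₁N, hd₁⟩, hd₁min⟩ :=
      (Set.toFinite {d : G | d ∈ N ∧ ∀ ω : Ω, d • ω ≠ ω}).exists_minimalFor
        (fun d => (supp 𝒯 d).ncard) _ ⟨d, hdN, hd⟩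
    obtain ⟨S, hS⟩ : (supp 𝒯 d₁).Nonempty := by
      by_contra h
      rw [Set.not_nonempty_iff_eq_empty] at h
      have h1 : ∀ S ∈ 𝒯, d₁ ∈ Subgroup.centralizer (S : Set G) := fun S hS => by
        by_contra hc
        exact (Set.eq_empty_iff_forall_notMem.1 h S) ⟨hS, hc⟩
      have hle : N ≤ Subgroup.centralizer ({d₁} : Set G) := by
        rw [← hTR]
        refine sup_le ?_ (sSup_le fun S hS => ?_)
        · intro t ht
          rw [Subgroup.mem_centralizer_singleton_iff]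
          exact Subgroup.mem_centralizer_iff.1 (h1 T hTmem) t ht
        · intro t ht
          rw [Subgroup.mem_centralizer_singleton_iff]
          exact Subgroup.mem_centralizer_iff.1 (h1 S hS.1) t ht
      have : d₁ ∈ N ⊓ C := ⟨hd₁N, Subgroup.mem_centralizer_iff.2 fun n hn =>
        Subgroup.mem_centralizer_singleton_iff.1 (hle hn)⟩
      rw [hCN, Subgroup.mem_bot] at this
      exact hd₁ α (by rw [this, one_smul])
    obtain ⟨⟨y, rfl⟩, hyS⟩ := hS
    set d₂ := y⁻¹ * d₁ * y with hd₂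
    have hd₂N : d₂ ∈ N := by simpa [hd₂] using hNn.conj_mem d₁ hd₁N y⁻¹
    have hd₂d : ∀ ω : Ω, d₂ • ω ≠ ω := fun ω hω => hd₁ (y • ω) (by
      rw [hd₂, mul_smul, mul_smul, inv_smul_eq_iff] at hω; exact hω)
    have hc : y * d₂ * y⁻¹ = d₁ := by rw [hd₂]; group
    have hTd₂ : T ∈ supp 𝒯 d₂ := by
      refine ⟨hTmem, fun h => hyS (Subgroup.mem_centralizer_iff.2 ?_)⟩
      rintro _ ⟨t, ht, rfl⟩
      show y * t * y⁻¹ * d₁ = d₁ * (y * t * y⁻¹)
      have := Subgroup.mem_centralizer_iff.1 h t ht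
      calc y * t * y⁻¹ * d₁ = y * (t * d₂) * y⁻¹ := by rw [hd₂]; group
        _ = y * (d₂ * t) * y⁻¹ := by rw [this]
        _ = d₁ * (y * t * y⁻¹) := by rw [hd₂]; group
    obtain ⟨t, ht, r, hr, hd₂e⟩ := hdec d₂ hd₂N
    refine ⟨t, ht, fun ω hω => ?_⟩
    by_cases hrd : ∀ ω : Ω, r • ω ≠ ω
    · have hsub : supp 𝒯 r ⊆ supp 𝒯 d₂ \ {T} := by
        rintro S ⟨hS, hrS⟩
        have hST : S ≠ T := fun e => hrS (e ▸ hRC hr)
        refine ⟨⟨hS, fun h => hrS ?_⟩, hST⟩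
        have ht' : t ∈ Subgroup.centralizer (S : Set G) :=
          Subgroup.mem_centralizer_iff.2 fun s hs => (hdisj S hS hST t ht s hs).symm
        rw [show r = t⁻¹ * d₂ by rw [hd₂e]; group]
        exact mul_mem (inv_mem ht') h
      have h1 : (supp 𝒯 r).ncard < (supp 𝒯 d₁).ncard := by
        calc (supp 𝒯 r).ncard ≤ (supp 𝒯 d₂ \ {T}).ncard := Set.ncard_le_ncard hsub (Set.toFinite _)
          _ < (supp 𝒯 d₂).ncard := Set.ncard_sdiff_singleton_lt_of_mem hTd₂ (Set.toFinite _)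
          _ = (supp 𝒯 d₁).ncard := by rw [← hc, hsupp]
      have hrN : r ∈ N := hTR ▸ Subgroup.mem_sup_right hr
      exact absurd (hd₁min ⟨hrN, hrd⟩ h1.le) (not_le.2 h1)
    · push_neg at hrd
      obtain ⟨ω', hω'⟩ := hrd
      obtain ⟨t₁, ht₁, s₁, -, h1⟩ := hfixT t ht 1 R.one_mem ω (by rw [mul_one]; exact hω)
      obtain ⟨t₂, -, s₂, hs₂, h2⟩ := hfixT 1 T.one_mem r hr ω' (by rw [one_mul]; exact hω')
      simp only [mul_one, inv_mul_cancel] at h1 h2
      rw [one_mul] at h2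
      refine hd₂d ((t₁ * s₂) • α) ?_
      have e1 : r * t₁ = t₁ * r := (hcomm t₁ ht₁ r hr).symm
      have e2 : d₂ * (t₁ * s₂) = t₁ * s₂ * (t₁⁻¹ * t * t₁) * (s₂⁻¹ * r * s₂) := by
        have e3 : s₂ * (t₁⁻¹ * t * t₁) = t₁⁻¹ * t * t₁ * s₂ :=
          (hcomm _ (T.mul_mem (T.mul_mem (T.inv_mem ht₁) ht) ht₁) _ hs₂).symm
        calc d₂ * (t₁ * s₂) = t * (r * t₁) * s₂ := by rw [hd₂e]; group
          _ = t₁ * (t₁⁻¹ * t * t₁) * r * s₂ := by rw [e1]; group
          _ = t₁ * ((t₁⁻¹ * t * t₁) * s₂) * (s₂⁻¹ * r * s₂) := by group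
          _ = t₁ * s₂ * (t₁⁻¹ * t * t₁) * (s₂⁻¹ * r * s₂) := by rw [← e3]; group
      rw [← mul_smul, e2, mul_smul, h2, mul_smul, h1]
  haveI : Nontrivial T := (Subgroup.nontrivial_iff_ne_bot _).2 hTne
  have hcT : Subgroup.center T = ⊥ := by
    rw [Subgroup.eq_bot_iff_forall]
    intro z hz
    exact Subtype.ext (Subgroup.mem_bot.1 (hZT ▸ (⟨z.2, Subgroup.mem_centralizer_iff.2 fun t ht =>
      congrArg Subtype.val (Subgroup.mem_center_iff.1 hz ⟨t, ht⟩)⟩ :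
        (z : G) ∈ T ⊓ Subgroup.centralizer (T : Set G))))
  obtain ⟨g', hg'⟩ := hT'mem
  have hordmap : ∀ a ∈ T, g' * a * g'⁻¹ ∈ T' ∧ orderOf (g' * a * g'⁻¹) = orderOf a := fun a ha =>
    ⟨hg' ▸ ⟨a, ha, rfl⟩, MulEquiv.orderOf_eq (MulAut.conj g') a⟩
  have hsupp2 : ∀ a ∈ T, a ≠ 1 → ∀ b ∈ T', b ≠ 1 → supp 𝒯 (a * b) = {T, T'} := by
    intro a ha ha1 b hb hb1
    have hsb : supp 𝒯 b = {T'} := by
      have hb' : g'⁻¹ * b * g' ∈ T := by
        rw [← hg'] at hb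
        obtain ⟨t, ht, rfl⟩ := hb
        simpa [mul_assoc] using ht
      have e : b = g' * (g'⁻¹ * b * g') * g'⁻¹ := by group
      rw [e, supp_conj, ← h𝒯, hsuppT _ hb' (fun h => hb1 (by rw [e, h]; group)), Set.image_singleton]
      exact congrArg _ hg'
    ext S
    constructor
    · rintro ⟨hS, h⟩
      by_contra hne
      simp only [Set.mem_insert_iff, Set.mem_singleton_iff, not_or] at hne
      refine h (mul_mem ?_ ?_)
      · by_contra hc
        exact hne.1 ((hsuppT a ha ha1).subset ⟨hS, hc⟩)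
      · by_contra hc
        exact hne.2 (hsb.subset ⟨hS, hc⟩)
    · rintro (rfl | rfl)
      · refine ⟨hTmem, fun h => (hsuppT a ha ha1).ge rfl |>.2 ?_⟩
        simpa using mul_mem h (inv_mem (hRC (hT'R hb)))
      · refine ⟨⟨g', hg'⟩, fun h => (hsb.ge rfl).2 ?_⟩
        have hac : a ∈ Subgroup.centralizer (S : Set G) := by
          by_contra hc
          exact hT'ne ((hsuppT a ha ha1).subset ⟨⟨g', hg'⟩, hc⟩)
        simpa using mul_mem (inv_mem hac) h
  have hn12 : ∀ a ∈ T, a ≠ 1 → ∀ b ∈ T', b ≠ 1 → ∀ c ∈ T, c ≠ 1 → ¬ IsConj c (a * b) := by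
    intro a ha ha1 b hb hb1 c hc hc1 h
    obtain ⟨g, hg⟩ := isConj_iff.1 h
    have := hsupp g c
    rw [hg, hsupp2 a ha ha1 b hb hb1, hsuppT c hc hc1, Set.ncard_pair hT'ne.symm,
      Set.ncard_singleton] at this
    omega
  -- every element of `T` is conjugate into the projection of the point stabiliser
  let B : Subgroup T :=
    { carrier := {a | ∃ r ∈ R, ((a : G) * r) • α = α}
      one_mem' := ⟨1, R.one_mem, by simp⟩
      mul_mem' := by
        rintro a b ⟨r, hr, h1⟩ ⟨s, hs, h2⟩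
        refine ⟨r * s, R.mul_mem hr hs, ?_⟩
        rw [Subgroup.coe_mul, show (a : G) * b * (r * s) = (a : G) * r * ((b : G) * s) by
          rw [mul_assoc, mul_assoc, ← mul_assoc (b : G), hcomm b b.2 r hr, mul_assoc],
          mul_smul, h2, h1]
      inv_mem' := by
        rintro a ⟨r, hr, h1⟩
        refine ⟨r⁻¹, R.inv_mem hr, ?_⟩
        rw [Subgroup.coe_inv, ← mul_inv_rev, ← hcomm a a.2 r hr, inv_smul_eq_iff, h1] }
  have hcover : B = ⊤ := by
    refine eq_top_of_conj_cover B fun a => ?_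
    rcases eq_or_ne a 1 with rfl | ha1
    · exact ⟨1, by simpa using B.one_mem⟩
    have ha1' : (a : G) ≠ 1 := by simpa using ha1
    have hfin : ∀ r ∈ R, ∀ ω : Ω, ((a : G) * r) • ω = ω → ∃ t : T, t⁻¹ * a * t ∈ B := by
      intro r hr ω hω
      obtain ⟨t, ht, s, hs, h⟩ := hfixT a a.2 r hr ω hω
      exact ⟨⟨t, ht⟩, _, R.mul_mem (R.mul_mem (R.inv_mem hs) hr) hs, by simpa using h⟩
    by_cases hader : ∃ ω : Ω, (a : G) • ω = ω
    · obtain ⟨ω, hω⟩ := hader
      exact hfin 1 R.one_mem ω (by rwa [mul_one])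
    push_neg at hader
    obtain ⟨u, v, hu, hv, huv⟩ := exists_orders_ne hcT
    rw [← Subgroup.orderOf_coe, ← Subgroup.orderOf_coe v] at huv
    obtain ⟨hu', huo⟩ := hordmap u u.2
    obtain ⟨hv', hvo⟩ := hordmap v v.2
    set r₁ := g' * (u : G) * g'⁻¹
    set r₂ := g' * (v : G) * g'⁻¹
    have hr₁ : r₁ ≠ 1 := fun e => hu (Subtype.ext (orderOf_eq_one_iff.1 (huo ▸ orderOf_eq_one_iff.2 e)))
    have hr₂ : r₂ ≠ 1 := fun e => hv (Subtype.ext (orderOf_eq_one_iff.1 (hvo ▸ orderOf_eq_one_iff.2 e)))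
    by_cases h1 : ∃ ω : Ω, ((a : G) * r₁) • ω = ω
    · obtain ⟨ω, hω⟩ := h1
      exact hfin r₁ (hT'R hu') ω hω
    by_cases h2 : ∃ ω : Ω, ((a : G) * r₂) • ω = ω
    · obtain ⟨ω, hω⟩ := h2
      exact hfin r₂ (hT'R hv') ω hω
    push_neg at h1 h2
    exfalso
    refine two_classes hκ hader h1 h2 (hn12 a a.2 ha1' r₁ hu' hr₁ a a.2 ha1')
      (hn12 a a.2 ha1' r₂ hv' hr₂ a a.2 ha1') fun h => ?_
    obtain ⟨g, hg⟩ := isConj_iff.1 h
    have himg := supp_conj T g ((a : G) * r₁)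
    rw [hg, ← h𝒯, hsupp2 a a.2 ha1' r₂ hv' hr₂, hsupp2 a a.2 ha1' r₁ hu' hr₁, Set.image_pair] at himg
    rw [show g * ((a : G) * r₁) * g⁻¹ = (g * (a : G) * g⁻¹) * (g * r₁ * g⁻¹) by group] at hg
    rcases (Set.pair_eq_pair_iff.1 himg.symm) with ⟨e1, e2⟩ | ⟨e1, e2⟩
    · have ha' : g * (a : G) * g⁻¹ ∈ T := by
        have : g * (a : G) * g⁻¹ ∈ T.map (MulAut.conj g).toMonoidHom := ⟨a, a.2, rfl⟩
        rwa [e1] at this
      have hr' : g * r₁ * g⁻¹ ∈ T' := by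
        have : g * r₁ * g⁻¹ ∈ T'.map (MulAut.conj g).toMonoidHom := ⟨r₁, hu', rfl⟩
        rwa [e2] at this
      have : g * r₁ * g⁻¹ = r₂ := by
        have h3 : (a : G)⁻¹ * (g * (a : G) * g⁻¹) = r₂ * (g * r₁ * g⁻¹)⁻¹ := by
          rw [eq_mul_inv_iff_mul_eq, mul_assoc, hg, inv_mul_cancel_left]
        have h4 := hTR' _ (T.mul_mem (T.inv_mem a.2) ha')
          (hT'R (h3 ▸ T'.mul_mem hv' (T'.inv_mem hr')))
        rw [h4] at h3
        exact (mul_inv_eq_one.1 h3.symm).symm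
      apply huv
      rw [← huo, ← hvo, ← this]
      exact (MulEquiv.orderOf_eq (MulAut.conj g) r₁).symm
    · have ha' : g * (a : G) * g⁻¹ ∈ T' := by
        have : g * (a : G) * g⁻¹ ∈ T.map (MulAut.conj g).toMonoidHom := ⟨a, a.2, rfl⟩
        rwa [e1] at this
      have hr' : g * r₁ * g⁻¹ ∈ T := by
        have : g * r₁ * g⁻¹ ∈ T'.map (MulAut.conj g).toMonoidHom := ⟨r₁, hu', rfl⟩
        rwa [e2] at this
      rw [← hcomm _ hr' _ (hT'R ha')] at hg
      have h3 : (a : G)⁻¹ * (g * r₁ * g⁻¹) = r₂ * (g * (a : G) * g⁻¹)⁻¹ := by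
        rw [eq_mul_inv_iff_mul_eq, mul_assoc, hg, inv_mul_cancel_left]
      have h4 := hTR' _ (T.mul_mem (T.inv_mem a.2) hr')
        (hT'R (h3 ▸ T'.mul_mem hv' (T'.inv_mem ha')))
      rw [h4] at h3
      have e3 : g * r₁ * g⁻¹ = a := (inv_mul_eq_one.1 h4).symm
      have e4 : g * (a : G) * g⁻¹ = r₂ := (mul_inv_eq_one.1 h3.symm).symm
      apply huv
      rw [← huo, ← hvo, ← MulEquiv.orderOf_eq (MulAut.conj g) r₁, MulAut.conj_apply, e3,
        ← MulEquiv.orderOf_eq (MulAut.conj g) (a : G), MulAut.conj_apply, e4]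
  -- the stabiliser meets `T` trivially
  let A : Subgroup G := T ⊓ stabilizer G α
  have hA : ∀ t ∈ T, ∀ a ∈ A, t * a * t⁻¹ ∈ A := by
    intro t ht a ha
    obtain ⟨r, hr, h⟩ := (hcover ▸ Subgroup.mem_top (⟨t, ht⟩ : T) : (⟨t, ht⟩ : T) ∈ B)
    refine ⟨T.mul_mem (T.mul_mem ht ha.1) (T.inv_mem ht), ?_⟩
    have e : t * a * t⁻¹ = (t * r) * a * (t * r)⁻¹ := by
      rw [mul_assoc t r a, ← hcomm a ha.1 r hr]
      group
    show (t * a * t⁻¹) • α = α
    rw [e, mul_smul, mul_smul, inv_smul_eq_iff.2 h.symm, mem_stabilizer_iff.1 ha.2, h]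
  have hAbot : A = ⊥ := by
    by_contra hne
    have hAN : ∀ n ∈ N, ∀ a ∈ A, n * a * n⁻¹ ∈ A := by
      intro n hn a ha
      obtain ⟨t, ht, r, hr, rfl⟩ := hdec n hn
      have e : t * r * a * (t * r)⁻¹ = t * a * t⁻¹ := by
        rw [mul_assoc t r a, ← hcomm a ha.1 r hr]
        group
      rw [e]; exact hA t ht a ha
    have hle : T ≤ A := hTmin ⟨hne, inf_le_left.trans hTN, hAN⟩ inf_le_left
    exact hTne (eq_bot_of_fixed N hTn fun t ht => (hle ht).2)
  have hTder : ∀ a ∈ T, a ≠ 1 → ∀ ω : Ω, a • ω ≠ ω := by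
    intro a ha ha1 ω hω
    obtain ⟨t, ht, s, -, h⟩ := hfixT a ha 1 R.one_mem ω (by rwa [mul_one])
    simp only [mul_one, inv_mul_cancel] at h
    have : t⁻¹ * a * t ∈ A := ⟨T.mul_mem (T.mul_mem (T.inv_mem ht) ha) ht, h⟩
    rw [hAbot, Subgroup.mem_bot] at this
    exact ha1 (by simpa using conj_eq_one_iff.1 (show t⁻¹ * a * t⁻¹⁻¹ = 1 by simpa using this))
  have hT'der : ∀ b ∈ T', b ≠ 1 → ∀ ω : Ω, b • ω ≠ ω := by
    intro b hb hb1 ω hω
    rw [← hg'] at hb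
    obtain ⟨t, ht, rfl⟩ := hb
    refine hTder t ht (fun e => hb1 (by simp [e])) (g'⁻¹ • ω) ?_
    have : (g' * t * g'⁻¹) • ω = ω := hω
    rw [mul_smul, mul_smul] at this
    exact eq_inv_smul_iff.2 this
  obtain ⟨u, v, hu, hv, huv⟩ := exists_orders_ne hcT
  rw [← Subgroup.orderOf_coe, ← Subgroup.orderOf_coe v] at huv
  obtain ⟨hv', hvo⟩ := hordmap v v.2
  set w := g' * (v : G) * g'⁻¹
  have hu1 : (u : G) ≠ 1 := by simpa using hu
  have hv1 : (v : G) ≠ 1 := by simpa using hv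
  have hw1 : w ≠ 1 := fun e => hv1 (orderOf_eq_one_iff.1 (hvo ▸ orderOf_eq_one_iff.2 e))
  have hwder : ∀ ω : Ω, ((u : G) * w) • ω ≠ ω := by
    intro ω hω
    have hc := hcomm u u.2 w (hT'R hv')
    apply huv
    rw [← hvo]
    have hpow : ∀ k : ℕ, ((u : G) ^ k * w ^ k) • ω = ω := fun k => by
      rw [← (show Commute (u : G) w from hc).mul_pow]
      induction k with
      | zero => simp
      | succ k ih => rw [pow_succ, mul_smul, hω, ih]
    refine Nat.dvd_antisymm (orderOf_dvd_of_pow_eq_one ?_) (orderOf_dvd_of_pow_eq_one ?_)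
    · by_contra hne
      have := hpow (orderOf w)
      rw [pow_orderOf_eq_one, mul_one] at this
      exact hTder _ (T.pow_mem u.2 _) hne ω this
    · by_contra hne
      have := hpow (orderOf (u : G))
      rw [pow_orderOf_eq_one, one_mul] at this
      exact hT'der _ (T'.pow_mem hv' _) hne ω this
  refine two_classes hκ (hTder u u.2 hu1) (hTder v v.2 hv1) hwder (fun h => ?_)
    (hn12 u u.2 hu1 w hv' hw1 u u.2 hu1) (hn12 u u.2 hu1 w hv' hw1 v v.2 hv1)
  obtain ⟨g, hg⟩ := isConj_iff.1 h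
  apply huv
  rw [← hg, ← MulAut.conj_apply, MulEquiv.orderOf_eq]

end CfsgLib.TwoClasses
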