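import Cfsg.Agent.TwoClasses.Basic

/-! Derangement counting with an abelian regular normal subgroup. -/

namespace CfsgLib.TwoClasses

open MulAction

variable {G Ω : Type*} [Group G] [Finite G] [MulAction G Ω] [Finite Ω]

theorem card_derangements [IsPretransitive G Ω] [Nonempty Ω] [FaithfulSMul G Ω]
    (h : ∀ g : G, g ≠ 1 → Nat.card (fixedBy Ω g) ≤ 1) :
    Nat.card {g : G // ∀ ω : Ω, g • ω ≠ ω} + 1 = Nat.card Ω := by
  classical
  have := Fintype.ofFinite G
  have htot := CfsgLib.Derange.sum_fixedBy (G := G) Ω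
  haveI : Nonempty (orbitRel.Quotient G Ω) := ‹Nonempty Ω›.map (Quotient.mk _)
  have h1 : Nat.card (orbitRel.Quotient G Ω) = 1 := by
    rw [Nat.card_eq_one_iff_unique]
    exact ⟨pretransitive_iff_subsingleton_quotient G Ω |>.1 inferInstance, inferInstance⟩
  rw [h1, one_mul] at htot
  have hone : Nat.card (fixedBy Ω (1 : G)) = Nat.card Ω :=
    Nat.card_congr ⟨Subtype.val, fun ω => ⟨ω, one_smul _ _⟩, fun _ => rfl, fun _ => rfl⟩
  have hval : ∀ g : G, g ≠ 1 →
      Nat.card (fixedBy Ω g) = if (∀ ω : Ω, g • ω ≠ ω) then 0 else 1 := by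
    intro g hg
    split_ifs with hd
    · haveI : IsEmpty (fixedBy Ω g) := ⟨fun x => hd x.1 x.2⟩
      exact Nat.card_of_isEmpty
    · push_neg at hd
      obtain ⟨ω, hω⟩ := hd
      haveI : Nonempty (fixedBy Ω g) := ⟨⟨ω, hω⟩⟩
      exact le_antisymm (h g hg) Nat.card_pos
  rw [← Finset.add_sum_erase _ _ (Finset.mem_univ (1 : G)), hone,
    Finset.sum_congr rfl (fun g hg => hval g (Finset.ne_of_mem_erase hg)),
    Finset.sum_ite, Finset.sum_const_zero, zero_add, Finset.sum_const, smul_eq_mul, mul_one] at htot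
  have hsplit := Finset.card_filter_add_card_filter_not (s := (Finset.univ : Finset G).erase 1)
    (fun g => ∀ ω : Ω, g • ω ≠ ω)
  have hD : Nat.card {g : G // ∀ ω : Ω, g • ω ≠ ω} =
      (((Finset.univ : Finset G).erase 1).filter fun g => ∀ ω : Ω, g • ω ≠ ω).card := by
    rw [Nat.card_eq_fintype_card, Fintype.card_subtype]
    congr 1
    ext g
    simp only [Finset.mem_filter, Finset.mem_erase, Finset.mem_univ, true_and, and_true]
    refine ⟨fun hg => ⟨fun e => ?_, hg⟩, fun hg => hg.2⟩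
    subst e
    exact hg (Classical.arbitrary Ω) (one_smul _ _)
  rw [Finset.card_erase_of_mem (Finset.mem_univ _), Finset.card_univ, ← Nat.card_eq_fintype_card]
    at hsplit
  have : 0 < Nat.card G := Nat.card_pos
  omega

variable (N : Subgroup G)

/-- The hypotheses on an abelian regular normal subgroup. -/
structure Affine : Prop where
  normal : N.Normal
  ne_bot : N ≠ ⊥
  comm : IsMulCommutative N
  trans : IsPretransitive N Ω
  regular : ∀ ω : Ω, stabilizer N ω = ⊥

variable {N}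

theorem Affine.der (A : Affine (Ω := Ω) N) {n : G} (hn : n ∈ N) (h1 : n ≠ 1) (ω : Ω) : n • ω ≠ ω :=
  fun h => by
    have h2 : (⟨n, hn⟩ : N) ∈ stabilizer N ω := h
    rw [A.regular ω, Subgroup.mem_bot] at h2
    exact h1 (congrArg Subtype.val h2)

theorem Affine.eq_of_smul (A : Affine (Ω := Ω) N) {a b : G} (ha : a ∈ N) (hb : b ∈ N) {ω : Ω}
    (h : a • ω = b • ω) : a = b := by
  by_contra hne
  exact A.der (N.mul_mem (N.inv_mem hb) ha) (fun e => hne (inv_mul_eq_one.1 e).symm) ω
    (by rw [mul_smul, h, inv_smul_smul])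

theorem Affine.card_eq (A : Affine (Ω := Ω) N) (α : Ω) : Nat.card N = Nat.card Ω := by
  haveI := A.trans
  refine Nat.card_eq_of_bijective (fun n : N => n • α) ⟨fun a b h => Subtype.ext (A.eq_of_smul a.2 b.2 h), ?_⟩
  exact fun x => exists_smul_eq N α x

theorem Affine.exists_conj (A : Affine (Ω := Ω) N) (α : Ω) {a b : G} (ha : a ∈ N) (h : IsConj a b) :
    ∃ k ∈ stabilizer G α, k * a * k⁻¹ = b := by
  haveI := A.trans
  haveI := A.normal
  obtain ⟨g, hg⟩ := isConj_iff.1 h
  obtain ⟨n, hn⟩ := exists_smul_eq N α (g • α)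
  have hn' : (n : G) • α = g • α := hn
  refine ⟨(n : G)⁻¹ * g, by rw [mem_stabilizer_iff, mul_smul, ← hn', inv_smul_smul], ?_⟩
  have hb : b ∈ N := hg ▸ Subgroup.Normal.conj_mem inferInstance a ha g
  calc (n : G)⁻¹ * g * a * ((n : G)⁻¹ * g)⁻¹ = (n : G)⁻¹ * (g * a * g⁻¹) * n := by group
    _ = b := by
      rw [hg, mul_assoc, show b * (n : G) = n * b from congrArg Subtype.val (A.comm.is_comm.comm ⟨b, hb⟩ n),
        inv_mul_cancel_left]

theorem Affine.two_transitive (A : Affine (Ω := Ω) N)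
    (h : ∀ a ∈ N, ∀ b ∈ N, a ≠ 1 → b ≠ 1 → IsConj a b) : IsMultiplyPretransitive G Ω 2 := by
  haveI := A.trans
  rw [is_two_pretransitive_iff]
  intro a b c d hab hcd
  obtain ⟨m, hm⟩ := exists_smul_eq N a b
  obtain ⟨m', hm'⟩ := exists_smul_eq N c d
  have hm1 : (m : G) ≠ 1 := fun e => hab (by rw [← hm, show m = 1 from Subtype.ext e, one_smul])
  have hm1' : (m' : G) ≠ 1 := fun e => hcd (by rw [← hm', show m' = 1 from Subtype.ext e, one_smul])
  obtain ⟨k, hk, hkm⟩ := A.exists_conj a m.2 (h m m.2 m' m'.2 hm1 hm1')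
  obtain ⟨l, hl⟩ := exists_smul_eq N a c
  have hl' : (l : G) • a = c := hl
  refine ⟨(l : G) * k, by rw [mul_smul, mem_stabilizer_iff.1 hk, hl'], ?_⟩
  have hcm : (l : G) * (m' : G) = m' * l := congrArg Subtype.val (A.comm.is_comm.comm l m')
  have e1 : k • b = (m' : G) • a := by
    have : (m : G) • a = b := hm
    rw [← this, ← mul_smul, show k * (m : G) = m' * k by rw [← hkm]; group, mul_smul,
      mem_stabilizer_iff.1 hk]
  rw [mul_smul, e1, ← mul_smul, hcm, mul_smul, hl']
  exact hm'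

end CfsgLib.TwoClasses
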